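import Mathlib.RingTheory.IntegralClosure.IntegrallyClosed
import Mathlib.RingTheory.Localization.FractionRing

/-!
# Saturated subrings of normal domains are normal
-/

namespace GrothLib.SubNormal

universe u v

theorem isIntegrallyClosed_of_saturated {P : Type u} [CommRing P] [IsDomain P] [IsIntegrallyClosed P]
    {S : Type v} [SetLike S P] [SubringClass S P] (A : S)
    (hsat : ∀ p : P, ∀ b ∈ A, b ≠ 0 → p * b ∈ A → p ∈ A) : IsIntegrallyClosed A := by
  rw [isIntegrallyClosed_iff (FractionRing A)]
  intro x hx
  obtain ⟨⟨a, b, hb⟩, rfl⟩ := IsLocalization.mk'_surjective (nonZeroDivisors A) x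
  have hb0 : (b : P) ≠ 0 := fun h => nonZeroDivisors.ne_zero hb (Subtype.ext h)
  let ι : A →+* P := SubringClass.subtype A
  have hι : Function.Injective ι := Subtype.val_injective
  let φ : FractionRing A →+* FractionRing P :=
    IsFractionRing.lift (g := (algebraMap P (FractionRing P)).comp ι)
      ((IsFractionRing.injective P (FractionRing P)).comp hι)
  have hφ : ∀ z : A, φ (algebraMap A (FractionRing A) z) = algebraMap P (FractionRing P) z := fun z =>
    IsFractionRing.lift_algebraMap _ z
  have hint : IsIntegral P (φ (IsLocalization.mk' (FractionRing A) a ⟨b, hb⟩)) := by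
    obtain ⟨f, hf, hf0⟩ := hx
    refine ⟨f.map ι, hf.map ι, ?_⟩
    rw [Polynomial.eval₂_map]
    have := congrArg φ hf0
    rw [Polynomial.hom_eval₂, map_zero] at this
    rw [show φ.comp (algebraMap A (FractionRing A)) = (algebraMap P (FractionRing P)).comp ι from RingHom.ext hφ] at this
    exact this
  obtain ⟨y, hy⟩ := IsIntegrallyClosed.isIntegral_iff.1 hint
  have hyb : y * (b : P) = a := by
    refine IsFractionRing.injective P (FractionRing P) ?_
    rw [map_mul, hy, ← hφ b, ← map_mul, IsLocalization.mk'_spec (FractionRing A) a ⟨b, hb⟩, hφ]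
  refine ⟨⟨y, hsat y b b.2 hb0 (hyb ▸ a.2)⟩, ?_⟩
  rw [IsLocalization.eq_mk'_iff_mul_eq, ← map_mul]
  exact congrArg _ (Subtype.ext hyb)

end GrothLib.SubNormal
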